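import Cfsg.Agent.H699.EP.Own5827L
import Cfsg.Agent.H682.EP.SURow

/-!
# S3499-IV, row S5827 (helper699): complete modulo the list `St5827`
-/

set_option autoImplicit false

namespace Cfsg.Agent.H699.EP

open Subgroup Cfsg Cfsg.Geo Cfsg.Agent.H284 Cfsg.Agent.H419.EP

/-- **Row S5827** (the list as a hypothesis). -/
theorem row_of_list (S : St5827) {Q : Type} [Group Q] [Finite Q] (hs : IsSimpleGroup Q) {A : Subgroup Q}
    {Γ : Subgroup (MulAut Q)} (h : EPT A Γ) {F : Type} [Field F] [Fintype F] {Qf : (Fin 8 → F) → F}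
    (m : Model Q (omegaGL Qf)) (nd : IsNondegenerateQuadraticForm Qf) (minus : ¬ IsPlusTypeOn Qf ⊤)
    (hres : InOrthogonalResidualClass (m.hat A)) : False := by
  refine row_of_ownU S hs h m nd minus hres fun K _ _ hK h3 P hP e => ?_
  obtain ⟨p, hpF⟩ := CharP.exists F
  have hp : Fact p.Prime := ⟨CharP.char_is_prime F p⟩
  have hcF : 1 < Fintype.card F := Fintype.one_lt_card
  have hKp : CharP K p := by
    obtain ⟨k, -, hk⟩ := FiniteField.card F p
    obtain ⟨r, hr⟩ := CharP.exists K
    have hr' : Fact r.Prime := ⟨CharP.char_is_prime K r⟩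
    obtain ⟨j, -, hj⟩ := FiniteField.card K r
    have h1 : r ∣ p := by
      have h2 : r ∣ Fintype.card K := by
        rw [hj]
        exact dvd_pow_self r j.ne_zero
      rw [hK, hk, ← pow_mul] at h2
      exact hr'.out.dvd_of_dvd_pow h2
    have h4 : r = p := (Nat.prime_dvd_prime_iff_eq hr'.out hp.out).1 h1
    rwa [h4] at hr
  refine Cfsg.Agent.H682.EP.adj_psu3 h m (by rw [Fintype.card_fin]; norm_num) (by rw [Fintype.card_fin]; norm_num)
    nd hP p ?_ (E := K) hK ?_ e
  · rintro rfl
    obtain ⟨k, -, hk⟩ := FiniteField.card F 3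
    have h4 : 3 ∣ Fintype.card F := by
      rw [hk]
      exact dvd_pow_self 3 k.ne_zero
    omega
  · omega

end Cfsg.Agent.H699.EP
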