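import Cfsg.Agent.H699.EP.Full5827
import Cfsg.Agent.S5827

/-!
# S3499-IV, row S5827 (helper699): complete
-/

set_option autoImplicit false

namespace Cfsg.Agent.H699.EP

open Subgroup Cfsg Cfsg.Geo Cfsg.Agent.H284 Cfsg.Agent.H419.EP

theorem st5827 : St5827 := fun Q hQ hm H hH hS => Cfsg.Agent.S5827.result Q hQ hm H hH hS

/-- **Row S5827** -/
theorem row {Q : Type} [Group Q] [Finite Q] (hs : IsSimpleGroup Q) {A : Subgroup Q}
    {Γ : Subgroup (MulAut Q)} (h : EPT A Γ) {F : Type} [Field F] [Fintype F] {Qf : (Fin 8 → F) → F}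
    (m : Model Q (omegaGL Qf)) (nd : IsNondegenerateQuadraticForm Qf) (minus : ¬ IsPlusTypeOn Qf ⊤)
    (hres : InOrthogonalResidualClass (m.hat A)) : False :=
  row_of_list st5827 hs h m nd minus hres

end Cfsg.Agent.H699.EP
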